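import Mathlib
import Cfsg.Agent.Lib.Helper95.BRA.Defs
import Cfsg.Agent.Lib.Helper16.LocalRing
import Cfsg.Agent.Lib.Helper72.BRA.C3d

/-!
# BRA package [C3c] (S4484): `D` divides the differences of the multiplicities
-/

set_option autoImplicit false

namespace Cfsg.Agent.Lib.Helper72.BRA

open Cfsg Cfsg.Agent.Lib.Helper74.Jordan Cfsg.Agent.Lib.Helper95.BRA Cfsg.Agent.Lib.Helper16

/-- A rational algebraic integer is an integer. -/
theorem int_of_isIntegral_rat72 {z : ℂ} (hz : IsIntegral ℤ z) (q : ℚ) (h : z = q) :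
    ∃ t : ℤ, z = t := by
  have h2 : z = algebraMap ℚ ℂ q := by rw [h]; simp
  rw [h2, isIntegral_algebraMap_iff (algebraMap ℚ ℂ).injective] at hz
  obtain ⟨y, hy⟩ := IsIntegrallyClosed.isIntegral_iff.mp hz
  refine ⟨y, ?_⟩
  rw [h, ← hy]
  simp

/-- a `p`-modular maximal ideal of the ring of algebraic integers exists -/
theorem exists_isPModular72 (p : ℕ) (hp : p.Prime) : ∃ M : Ideal AlgInt, IsPModular p M := by
  have hne : Ideal.span {((p : ℕ) : AlgInt)} ≠ ⊤ := by
    rw [Ne, Ideal.span_singleton_eq_top]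
    intro hu
    obtain ⟨v, hv⟩ := hu.exists_right_inv
    have h1 : ((p : ℕ) : ℂ) * (v : ℂ) = 1 := by
      have := congrArg (fun x : AlgInt => (x : ℂ)) hv
      simpa using this
    have hp0 : (p : ℂ) ≠ 0 := by exact_mod_cast hp.ne_zero
    have h2 : (v : ℂ) = ((1 / (p : ℚ) : ℚ) : ℂ) := by
      push_cast
      field_simp
      linear_combination h1
    obtain ⟨t, ht⟩ := int_of_isIntegral_rat72 v.2 _ h2
    rw [ht] at h1
    have h3 : (p : ℤ) * t = 1 := by exact_mod_cast h1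
    have h4 : (p : ℤ) ∣ 1 := ⟨t, h3.symm⟩
    have h5 : p ∣ 1 := by exact_mod_cast h4
    exact hp.one_lt.ne' (Nat.dvd_one.mp h5)
  obtain ⟨M, hM, hle⟩ := Ideal.exists_le_maximal _ hne
  exact ⟨M, hp, hM, hle (Ideal.subset_span rfl)⟩

theorem pkgC3c : PkgC3c := by
  intro p hp m D hD hint i hi j hj
  obtain ⟨M, hM⟩ := exists_isPModular72 p hp
  have hprime := isPrime_of_isPModular hM
  have hζ : IsPrimitiveRoot (rt p) p := rt_prim hp.ne_zero
  have hζp : rt p ^ p = 1 := hζ.pow_eq_one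
  have hζint : IsIntegral ℤ (rt p) :=
    ⟨Polynomial.X ^ p - Polynomial.C 1, Polynomial.monic_X_pow_sub_C 1 hp.ne_zero, by simp [hζp]⟩
  obtain ⟨c, hc⟩ : ∃ c : ℕ → ℂ, ∀ l, c l = ∑ k ∈ Finset.range p, (m k : ℂ) * rt p ^ (k * l) :=
    ⟨fun l => ∑ k ∈ Finset.range p, (m k : ℂ) * rt p ^ (k * l), fun _ => rfl⟩
  have hint' : ∀ l : ℕ, ¬ p ∣ l → IsIntegral ℤ (c l / (D : ℂ)) := by
    intro l hl
    rw [hc]
    exact hint l hl
  -- Fourier inversion
  have hfour : ∀ a < p, ∑ l ∈ Finset.range p, c l * rt p ^ ((p - a) * l)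
      = (p : ℂ) * (m a : ℂ) := by
    intro a ha
    simp only [hc, Finset.sum_mul]
    rw [Finset.sum_comm]
    have h0 : ∀ k ∈ Finset.range p,
        ∑ l ∈ Finset.range p, (m k : ℂ) * rt p ^ (k * l) * rt p ^ ((p - a) * l)
        = if k = a then (p : ℂ) * (m a : ℂ) else 0 := by
      intro k hk
      have hk' := Finset.mem_range.mp hk
      have h1 : ∀ l, (m k : ℂ) * rt p ^ (k * l) * rt p ^ ((p - a) * l)
          = (m k : ℂ) * (rt p ^ (k + (p - a))) ^ l := by
        intro l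
        rw [mul_assoc, ← pow_add, ← add_mul, pow_mul]
      simp only [h1]
      rw [← Finset.mul_sum]
      split_ifs with hka
      · subst hka
        have h2 : rt p ^ (k + (p - k)) = 1 := by
          rw [Nat.add_sub_cancel' hk'.le, hζp]
        rw [h2]
        simp
        ring
      · have hne1 : rt p ^ (k + (p - a)) ≠ 1 := by
          intro h1
          have h2 : p ∣ k + (p - a) := (hζ.pow_eq_one_iff_dvd _).mp h1
          have h3 : p ≤ k + (p - a) := Nat.le_of_dvd (by omega) h2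
          have h4 : p ∣ k + (p - a) - p := Nat.dvd_sub h2 (dvd_refl p)
          have h5 : k + (p - a) - p = 0 := Nat.eq_zero_of_dvd_of_lt h4 (by omega)
          omega
        rw [geom_sum_eq hne1, ← pow_mul, mul_comm (k + (p - a)), pow_mul, hζp, one_pow, sub_self,
          zero_div, mul_zero]
    rw [Finset.sum_congr rfl h0, Finset.sum_ite_eq' (Finset.range p) a]
    simp [ha]
  have hdiff : (p : ℂ) * ((m i : ℂ) - (m j : ℂ))
      = ∑ l ∈ (Finset.range p).erase 0,
          c l * (rt p ^ ((p - i) * l) - rt p ^ ((p - j) * l)) := by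
    rw [mul_sub, ← hfour i hi, ← hfour j hj, ← Finset.sum_sub_distrib]
    have h0 : (fun l => c l * rt p ^ ((p - i) * l) - c l * rt p ^ ((p - j) * l)) 0 = 0 := by
      simp
    have h1 := Finset.sum_erase (Finset.range p)
      (f := fun l => c l * rt p ^ ((p - i) * l) - c l * rt p ^ ((p - j) * l)) (a := 0) h0
    refine h1.symm.trans ?_
    apply Finset.sum_congr rfl
    intro l _
    ring
  have hD0 : (D : ℂ) ≠ 0 := by exact_mod_cast hD.ne'
  obtain ⟨t, ht⟩ : ∃ t : ℂ, t = ∑ l ∈ (Finset.range p).erase 0,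
      (c l / (D : ℂ)) * (rt p ^ ((p - i) * l) - rt p ^ ((p - j) * l)) := ⟨_, rfl⟩
  have htval : t = (p : ℂ) * ((m i : ℂ) - (m j : ℂ)) / (D : ℂ) := by
    rw [ht, hdiff, Finset.sum_div]
    apply Finset.sum_congr rfl
    intro l _
    ring
  have hl : ∀ l ∈ (Finset.range p).erase 0, ¬ p ∣ l := by
    intro l hl hd
    rw [Finset.mem_erase, Finset.mem_range] at hl
    exact hl.1 (Nat.eq_zero_of_dvd_of_lt hd hl.2)
  have htint : IsIntegral ℤ t := by
    rw [ht]
    apply IsIntegral.sum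
    intro l hl'
    exact (hint' l (hl l hl')).mul ((hζint.pow _).sub (hζint.pow _))
  have htM : MemLocalIdeal M t := by
    rw [ht]
    apply memLocalIdeal_sum hprime
    intro l hl'
    have h1 : MemLocalRing M (c l / (D : ℂ)) :=
      memLocalRing_of_algInt hprime ⟨_, hint' l (hl l hl')⟩
    apply memLocalIdeal_mul_left hprime h1
    have h2 : rt p ^ ((p - i) * l) - rt p ^ ((p - j) * l)
        = (rt p ^ ((p - i) * l) - 1) - (rt p ^ ((p - j) * l) - 1) := by ring
    rw [h2]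
    apply memLocalIdeal_sub hprime <;> apply memLocalIdeal_root_sub_one72 hM <;>
      rw [← pow_mul, mul_comm, pow_mul, hζp, one_pow]
  have htq : t = (((p : ℚ) * ((m i : ℚ) - (m j : ℚ)) / (D : ℚ) : ℚ) : ℂ) := by
    rw [htval]
    push_cast
    rfl
  obtain ⟨n, hn⟩ := int_of_isIntegral_rat72 htint _ htq
  have hDn : (D : ℤ) * n = (p : ℤ) * ((m i : ℤ) - (m j : ℤ)) := by
    have h1 : (D : ℂ) * (n : ℂ) = (p : ℂ) * ((m i : ℂ) - (m j : ℂ)) := by
      rw [← hn, htval]
      field_simp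
    exact_mod_cast h1
  have hpn : (p : ℤ) ∣ n := by
    rw [hn] at htM
    obtain ⟨k, rfl | rfl⟩ := Int.eq_nat_or_neg n
    · have h1 : MemLocalIdeal M (k : ℂ) := by simpa using htM
      exact Int.natCast_dvd_natCast.mpr ((memLocalIdeal_natCast_iff hM k).mp h1)
    · have h1 : MemLocalIdeal M (k : ℂ) := by simpa using memLocalIdeal_neg htM
      exact (dvd_neg).mpr (Int.natCast_dvd_natCast.mpr ((memLocalIdeal_natCast_iff hM k).mp h1))
  obtain ⟨n', rfl⟩ := hpn
  have hp0 : (p : ℤ) ≠ 0 := by exact_mod_cast hp.ne_zero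
  refine ⟨n', ?_⟩
  have h1 : (p : ℤ) * ((m i : ℤ) - (m j : ℤ)) = (p : ℤ) * ((D : ℤ) * n') := by
    rw [← hDn]
    ring
  exact mul_left_cancel₀ hp0 h1

end Cfsg.Agent.Lib.Helper72.BRA
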